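import Cfsg.Agent.Rq.L2

/-! Stabilisers of non-degenerate subspaces have at least four double cosets. -/

set_option autoImplicit false
set_option linter.unusedSectionVars false
open MulAction Module

namespace CF.Rq

variable {F V : Type*} [Field F] [Fintype F] [AddCommGroup V] [Module F V] {σ : F →+* F}
  {B : V →ₛₗ[σ] V →ₗ[F] F} {q : ℕ} {K : Subgroup (V ≃ₗ[F] V)}

namespace R2

/-- invariants of double cosets -/
def Bi {G : Type*} [Group G] (H : Subgroup G) (P : G → Prop) : Prop := ∀ g, ∀ k ∈ H, ∀ k' ∈ H, P g → P (k * g * k')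

theorem chain {G : Type*} [Group G] {H : Subgroup G} {P Q R : G → Prop} (hP : Bi H P) (hQ : Bi H Q) (hR : Bi H R) {a b c d : G}
    (p0 : P a) (p1 : ¬ P b) (p2 : ¬ P c) (p3 : ¬ P d) (q1 : Q b) (q2 : ¬ Q c) (q3 : ¬ Q d) (r2 : R c) (r3 : ¬ R d) : ¬ R4 H :=
  fun h => by
    obtain ⟨i, j, ne, k, hk, k', hk', e⟩ := h ![a, b, c, d]
    have m : ∀ {P : G → Prop}, Bi H P → (P (![a, b, c, d] i) ↔ P (![a, b, c, d] j)) := fun hP =>
      ⟨fun o => e ▸ hP _ k hk k' hk' o, fun o => by simpa [e, mul_assoc] using hP _ _ (inv_mem hk) _ (inv_mem hk') o⟩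
    have := m hP
    have := m hQ
    have := m hR
    fin_cases i <;> fin_cases j <;> simp_all

variable {Y : Submodule F V} {g : GG B}

variable (B) in
/-- `Y ⊓ g⁻¹ Y` has codimension at most `k` in `Y` -/
def Cd (Y : Submodule F V) (k : ℕ) (g : GG B) : Prop := ∃ a : Fin k → V, ∀ v ∈ Y, (∀ i, B (a i) v = 0) → g.1 v ∈ Y

theorem inv_left (k : GG B) (a v : V) : B (k⁻¹.1 a) v = B a (k.1 v) := by
  rw [← k.2.1]; simp

theorem bi_cd (k : ℕ) : Bi (St B Y) (Cd B Y k) := fun _ k hk k' hk' ⟨a, h⟩ =>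
  ⟨fun i => k'⁻¹.1 (a i), fun v hv e => (hk _).2 (h _ ((hk' v).2 hv) fun i => (inv_left k' _ _).symm.trans (e i))⟩

theorem not_cd {k m : ℕ} (l : k < m) (x f : Fin m → V) (hx : ∀ i, x i ∈ Y) (d : ∀ i j, B (f i) (x j) = if i = j then 1 else 0)
    (h : ∀ v ∈ Y, g.1 v ∈ Y → ∀ i, B (f i) v = 0) : ¬ Cd B Y k g := fun ⟨a, ha⟩ => by
  obtain ⟨c, hc, c0⟩ := (Submodule.ne_bot_iff _).1 (LinearMap.ker_ne_bot_of_finrank_lt
    (f := LinearMap.pi fun i => B (a i) ∘ₗ Fintype.linearCombination F x) (by simpa using l))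
  have m : Fintype.linearCombination F x c ∈ Y := by
    rw [Fintype.linearCombination_apply]; exact Submodule.sum_mem _ fun i _ => Y.smul_mem _ (hx i)
  refine c0 (funext fun i => ?_)
  simpa [Fintype.linearCombination_apply, d] using h _ m (ha _ m (congrFun hc)) i

theorem hyp (h : Hm σ B q) (nd : Y ⊓ Pp B Y = ⊥) (hY : 2 ≤ finrank F Y) :
    ∃ x ∈ Y, ∃ f ∈ Y, B x x = 0 ∧ B f f = 0 ∧ B x f = 1 ∧ B f x = 1 := by
  obtain ⟨x, hx, x0, xx⟩ := h.ex_iso Y hY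
  obtain ⟨y, hy, e⟩ : ∃ y ∈ Y, B x y = 1 := by
    by_contra! k
    refine x0 (nd.le ⟨hx, fun y hy => h.refl (by_contra fun o => k _ (Y.smul_mem (B x y)⁻¹ hy) ?_)⟩)
    rw [map_smul, smul_eq_mul, inv_mul_cancel₀ o]
  have e' : B y x = 1 := by rw [h.symm, e, map_one]
  obtain ⟨l, hl⟩ := h.trace (h.symm y y).symm
  refine ⟨x, hx, y - l • x, sub_mem hy (Y.smul_mem _ hx), xx, ?_, by simp [e, xx], by simp [e', xx]⟩
  simp [e, e', xx]
  linear_combination -hl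

end R2
open R2

theorem red2 (h : Hm σ B q) {Y : Submodule F V} (nd : Y ⊓ Pp B Y = ⊥) (hY : 2 ≤ finrank F Y)
    (hY' : 2 ≤ finrank F (Pp B Y)) : ¬ R4 (St B Y) := by
  obtain ⟨x, hx, f, hf, xx, ff, xf, fx⟩ := hyp h nd hY
  obtain ⟨y, hy, u, hu, yy, uu, yu, uy⟩ := hyp h (by rw [h.Pp_Pp, inf_comm, nd]) hY'
  obtain ⟨c, c0, hc⟩ := h.ex_skew
  obtain ⟨l, hl⟩ := h.trace (map_one σ)
  have o : ∀ b ∈ Pp B Y, ∀ v ∈ Y, B b v = 0 := fun b hb v hv => h.refl (hb v hv)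
  have T : ∀ a ∈ Y, ∀ b ∈ Pp B Y, B a a + B b b = 0 → ∃ g : GG B, ∀ v, g.1 v = v + (c * B (a + b) v) • (a + b) :=
    fun a ha b hb e => by
      obtain ⟨g, hg⟩ := h.exists_tv (x := a + b) (by simpa [hb a ha, o b hb a ha] using e) hc
      exact ⟨g, fun v => by simpa [E, smul_smul] using hg v⟩
  have M : ∀ a ∈ Y, ∀ b ∈ Pp B Y, b ≠ 0 → ∀ g : GG B, (∀ v, g.1 v = v + (c * B (a + b) v) • (a + b)) →
      ∀ v ∈ Y, g.1 v ∈ Y ↔ B a v = 0 := fun a ha b hb b0 g hg v hv => by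
    rw [hg, Y.add_mem_iff_right hv, smul_add, Y.add_mem_iff_right (Y.smul_mem _ ha), map_add, LinearMap.add_apply, o b hb v hv,
      add_zero]
    refine ⟨fun e => ?_, fun e => by simp [e]⟩
    simpa [c0, b0] using nd.le ⟨e, (Pp B Y).smul_mem _ hb⟩
  have y0 : y ≠ 0 := fun e => by simp [e] at yu
  obtain ⟨g1, e1⟩ := T x hx y hy (by rw [xx, yy, add_zero])
  obtain ⟨g3, e3⟩ := T f hf (-u) (neg_mem hu) (by simp [ff, uu])
  have aa : B (x + l • f) (x + l • f) = 1 := by simp [xx, ff, xf, fx, add_comm, hl]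
  have bb : B (y - l • u) (y - l • u) = -1 := by
    simp [yy, uu, yu, uy]
    linear_combination -hl
  have ha := add_mem hx (Y.smul_mem l hf)
  have hb := sub_mem hy ((Pp B Y).smul_mem l hu)
  obtain ⟨g2, e2⟩ := T _ ha _ hb (by rw [aa, bb, add_neg_cancel])
  have m1 := M x hx y hy y0 g1 e1
  have m2 := M _ ha _ hb (fun e => by simp [e] at bb) g2 e2
  have n3 : ∀ k < 2, ¬ Cd B Y k (g1 * g3) := fun k l => not_cd l ![f, x] ![x, f] (by simp [Fin.forall_fin_two, hx, hf])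
    (by simp [Fin.forall_fin_two, xx, ff, xf, fx]) fun v hv e => by
      have k : (g1 * g3).1 v = (v + (c * B x v) • x + (c * B f v) • f) + ((c * B x v) • y - (c * B f v) • u) := by
        rw [Subgroup.coe_mul, LinearEquiv.mul_apply, e1, e3]
        simp [o y hy v hv, o u hu v hv, xf, yu, hu x hx, o y hy f hf]
        module
      rw [k, Y.add_mem_iff_right (add_mem (add_mem hv (Y.smul_mem _ hx)) (Y.smul_mem _ hf))] at e
      have z := (Submodule.mem_bot F).1 (nd.le ⟨e, sub_mem ((Pp B Y).smul_mem _ hy) ((Pp B Y).smul_mem _ hu)⟩)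
      exact Fin.forall_fin_two.2 ⟨by simpa [uy, uu, c0] using congrArg (B u) z, by simpa [yu, yy, c0] using congrArg (B y) z⟩
  refine chain (Q := fun g => Cd B Y 1 g ∧ ∃ v ∈ Y, g.1 v ∈ Y ∧ v ≠ 0 ∧ ∀ w ∈ Y, g.1 w ∈ Y → B v w = 0) (bi_cd 0) ?_ (bi_cd 1)
    (a := 1) ⟨0, fun v hv _ => hv⟩ (fun ⟨a, e⟩ => ?_) (fun ⟨a, e⟩ => ?_) (n3 0 two_pos)
    ⟨⟨fun _ => x, fun v hv e => (m1 v hv).2 (e 0)⟩, x, hx, (m1 x hx).2 xx, fun e => by simp [e] at xf, fun w hw e => (m1 w hw).1 e⟩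
    (fun ⟨_, v, hv, k1, v0, k2⟩ => v0 (nd.le ⟨hv, fun w hw => h.refl ?_⟩)) (fun e => n3 1 one_lt_two e.1)
    ⟨fun _ => x + l • f, fun v hv e => (m2 v hv).2 (e 0)⟩ (n3 1 one_lt_two)
  · rintro g k hk k' hk' ⟨c1, v, hv, k1, v0, k2⟩
    refine ⟨bi_cd 1 g k hk k' hk' c1, k'⁻¹.1 v, (inv_mem hk' v).2 hv, (hk _).2 (by simpa using k1), by simpa using v0,
      fun w hw e => (inv_left k' v w).trans (k2 _ ((hk' w).2 hw) ((hk _).1 e))⟩
  · simpa [xf] using (m1 f hf).1 (e f hf nofun)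
  · simpa only [aa, one_ne_zero] using (m2 _ ha).1 (e _ ha nofun)
  · have m := sub_mem hw (Y.smul_mem (B (x + l • f) w) ha)
    have := k2 _ m ((m2 _ m).2 (by rw [map_sub, map_smul, aa, smul_eq_mul, mul_one, sub_self]))
    rwa [map_sub, map_smul, h.refl ((m2 v hv).1 k1), smul_zero, sub_zero] at this

end CF.Rq
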